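import Groth.Prelude.Def_Grpd
import Mathlib.Algebra.TrivSqZeroExt.Basic
import Mathlib.RingTheory.Kaehler.Basic
import Mathlib.RingTheory.Ideal.Cotangent
import Mathlib.LinearAlgebra.Dimension.Free
import Mathlib.LinearAlgebra.Basis.VectorSpace

/-!
# Translation invariance of differentials for groupoids over a field
-/

set_option autoImplicit false
set_option backward.isDefEq.respectTransparency false
set_option synthInstance.maxHeartbeats 200000
set_option maxHeartbeats 1000000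

universe u

open CategoryTheory CategoryTheory.Limits AlgebraicGeometry Grpd

namespace Groth.Agent.GrpdDiff

section Derivations

variable {B A : Type u} [CommRing B] [CommRing A] {M : Type u} [AddCommGroup M] [Module A M]

/-- A map satisfying the Leibniz rule with respect to a ring homomorphism. -/
structure IsDer (ρ : B →+* A) (δ : B → M) : Prop where
  add : ∀ x y, δ (x + y) = δ x + δ y
  mul : ∀ x y, δ (x * y) = ρ x • δ y + ρ y • δ x

variable [Module Aᵐᵒᵖ M] [IsCentralScalar A M]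

theorem IsDer.one {ρ : B →+* A} {δ : B → M} (h : IsDer ρ δ) : δ 1 = 0 := by
  have := h.mul 1 1
  rw [one_mul, map_one, one_smul] at this
  exact left_eq_add.1 this

/-- The ring homomorphism into a trivial square-zero extension attached to a derivation. -/
def IsDer.hom {ρ : B →+* A} {δ : B → M} (h : IsDer ρ δ) : B →+* TrivSqZeroExt A M :=
  RingHom.mk'
    { toFun := fun x => (ρ x, δ x)
      map_one' := Prod.ext (map_one ρ) h.one
      map_mul' := fun x y => Prod.ext (map_mul ρ x y) <| by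
        show δ (x * y) = ρ x • δ y + MulOpposite.op (ρ y) • δ x
        rw [op_smul_eq_smul, h.mul] }
    (fun x y => Prod.ext (map_add ρ x y) (h.add x y))

theorem isDer_snd {ρ : B →+* A} (ψ : B →+* TrivSqZeroExt A M) (h : ∀ x, (ψ x).fst = ρ x) :
    IsDer ρ (fun x => (ψ x).snd) where
  add x y := by simp
  mul x y := by simp [h, op_smul_eq_smul]

end Derivations

variable {S : Scheme.{u}} (G : GroupoidScheme S)

/-- Composition of arrows. -/
noncomputable def cmp {T : Scheme.{u}} (α β : T ⟶ G.R) (h : α ≫ G.s = β ≫ G.t) : T ⟶ G.R :=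
  pullback.lift α β h ≫ G.c

theorem cmp_congr {T : Scheme.{u}} {α α' β β' : T ⟶ G.R} {h : α ≫ G.s = β ≫ G.t} (hα : α = α') (hβ : β = β') :
    cmp G α β h = cmp G α' β' (hα ▸ hβ ▸ h) := by
  subst hα hβ; rfl

theorem comp_cmp {T T' : Scheme.{u}} (g : T' ⟶ T) (α β : T ⟶ G.R) (h : α ≫ G.s = β ≫ G.t) :
    g ≫ cmp G α β h = cmp G (g ≫ α) (g ≫ β) (by simp [h]) := by
  rw [cmp, cmp, ← Category.assoc]
  congr 1
  apply pullback.hom_ext <;> simp

theorem cmp_inv_cancel {T : Scheme.{u}} (α β : T ⟶ G.R) (h : (α ≫ G.i) ≫ G.s = β ≫ G.t)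
    (h' : α ≫ G.s = cmp G (α ≫ G.i) β h ≫ G.t) : cmp G α (cmp G (α ≫ G.i) β h) h' = β := by
  have h1 : α ≫ G.s = (α ≫ G.i) ≫ G.t := by rw [Category.assoc, G.i_t]
  refine (G.assoc α (α ≫ G.i) β h1 h).symm.trans ?_
  have e1 : α ≫ G.t = β ≫ G.t := by rw [← h, Category.assoc, G.i_s]
  show cmp G _ β _ = β
  refine (cmp_congr G (α' := β ≫ G.t ≫ G.e) ?_ rfl).trans (G.e_comp β)
  rw [G.comp_i, ← Category.assoc, e1, Category.assoc]

theorem inv_cmp_cancel {T : Scheme.{u}} (α γ : T ⟶ G.R) (h : α ≫ G.s = γ ≫ G.t)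
    (h' : (α ≫ G.i) ≫ G.s = cmp G α γ h ≫ G.t) : cmp G (α ≫ G.i) (cmp G α γ h) h' = γ := by
  have h1 : (α ≫ G.i) ≫ G.s = α ≫ G.t := by rw [Category.assoc, G.i_s]
  refine (G.assoc (α ≫ G.i) α γ h1 h).symm.trans ?_
  show cmp G _ γ _ = γ
  refine (cmp_congr G (α' := γ ≫ G.t ≫ G.e) ?_ rfl).trans (G.e_comp γ)
  rw [G.i_comp, ← Category.assoc, h, Category.assoc]

theorem cmp_left_unique {T : Scheme.{u}} {α β β' γ : T ⟶ G.R} {h : (α ≫ G.i) ≫ G.s = β ≫ G.t}
    {h' : (α ≫ G.i) ≫ G.s = β' ≫ G.t} (e : cmp G (α ≫ G.i) β h = γ) (e' : cmp G (α ≫ G.i) β' h' = γ) : β = β' := by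
  have h1 : α ≫ G.s = γ ≫ G.t := by
    rw [← e, cmp, G.comp_t]; simp [G.i_t]
  subst e
  refine (cmp_inv_cancel G α β h h1).symm.trans ((cmp_congr G rfl e'.symm).trans (cmp_inv_cancel G α β' h' ?_))
  rw [cmp, G.comp_t]; simp [G.i_t]

theorem cmp_pullback {T T' : Scheme.{u}} (g : T' ⟶ T) {α β γ : T ⟶ G.R} {h : α ≫ G.s = β ≫ G.t}
    {α' β' γ' : T' ⟶ G.R} {h' : α' ≫ G.s = β' ≫ G.t} (e : cmp G α β h = γ) (eα : α' = g ≫ α) (eβ : β' = g ≫ β)
    (eγ : γ' = g ≫ γ) : cmp G α' β' h' = γ' := by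
  subst eα eβ eγ e
  exact (comp_cmp G g α β h).symm

theorem cmp_restrict {T T' : Scheme.{u}} (g : T' ⟶ T) {α β : T ⟶ G.R} (h : α ≫ G.s = β ≫ G.t)
    {α' β' : T' ⟶ G.R} (h' : α' ≫ G.s = β' ≫ G.t) (eα : g ≫ α = α') (eβ : g ≫ β = β') :
    g ≫ cmp G α β h = cmp G α' β' h' := by
  subst eα eβ
  exact comp_cmp G g α β h

theorem cmp_switch {T : Scheme.{u}} {α β γ : T ⟶ G.R} (w : α ≫ G.s = γ ≫ G.t) (e : β = cmp G α γ w)
    (h : (α ≫ G.i) ≫ G.s = β ≫ G.t) : cmp G (α ≫ G.i) β h = γ := by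
  subst e
  exact inv_cmp_cancel G α γ w h

theorem cmp_i_self {T : Scheme.{u}} (a : T ⟶ G.R) (h : (a ≫ G.i) ≫ G.s = a ≫ G.t) :
    cmp G (a ≫ G.i) a h = a ≫ G.s ≫ G.e := G.i_comp a

theorem cmp_self_e {T : Scheme.{u}} (a : T ⟶ G.R) (h : a ≫ G.s = (a ≫ G.s ≫ G.e) ≫ G.t) :
    cmp G a (a ≫ G.s ≫ G.e) h = a := G.comp_e a

theorem incl_surjective {A : Type u} [CommRing A] {M : Type u} [AddCommGroup M] [Module A M] [Module Aᵐᵒᵖ M]
    [IsCentralScalar A M] :
    Function.Surjective (Spec.map (CommRingCat.ofHom (TrivSqZeroExt.fstHom A A M).toRingHom)) := by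
  intro p
  have hs : Function.Surjective (TrivSqZeroExt.fstHom A A M).toRingHom := fun x => ⟨TrivSqZeroExt.inl x, rfl⟩
  show p ∈ Set.range (PrimeSpectrum.comap (TrivSqZeroExt.fstHom A A M).toRingHom)
  rw [range_comap_of_surjective _ _ hs]
  intro x hx
  have h2 : x * x = 0 := by
    refine TrivSqZeroExt.ext ?_ ?_ <;> simp [show x.fst = 0 from hx]
  exact p.isPrime.mem_or_mem (h2 ▸ p.asIdeal.zero_mem) |>.elim id id

section

variable {k A B : Type u} [Field k] [CommRing A] [CommRing B] [Algebra k A] [Algebra k B]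
  (eU : G.U ≅ Spec (CommRingCat.of k))
  (a : Spec (CommRingCat.of A) ⟶ G.R) [IsOpenImmersion a]
  (j : Spec (CommRingCat.of B) ⟶ G.R) [IsOpenImmersion j]
  (σ : k →+* A) (ε : B →+* k)

/-- The compatibilities of the charts `a` and `j` with source, target and identity. -/
structure Charts : Prop where
  at' : a ≫ G.t = Spec.map (CommRingCat.ofHom (algebraMap k A)) ≫ eU.inv
  as' : a ≫ G.s = Spec.map (CommRingCat.ofHom σ) ≫ eU.inv
  jt : j ≫ G.t = Spec.map (CommRingCat.ofHom (algebraMap k B)) ≫ eU.inv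
  je : Spec.map (CommRingCat.ofHom ε) ≫ j = eU.inv ≫ G.e
  εk : ∀ c, ε (algebraMap k B c) = c

variable {T : Type u} [CommRing T] (ι : A →+* T) (π : T →+* A)

/-- The translation relation between homomorphisms into an infinitesimal thickening. -/
def Tr (ψ : A →+* T) (φ : B →+* T) : Prop :=
  ∃ h, cmp G ((Spec.map (CommRingCat.ofHom ι) ≫ a) ≫ G.i) (Spec.map (CommRingCat.ofHom ψ) ≫ a) h =
    Spec.map (CommRingCat.ofHom φ) ≫ j

theorem map_map (f : B →+* A) (g : A →+* T) :
    Spec.map (CommRingCat.ofHom g) ≫ Spec.map (CommRingCat.ofHom f) = Spec.map (CommRingCat.ofHom (g.comp f)) := by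
  rw [← Spec.map_comp, ← CommRingCat.ofHom_comp]

/-- Composition of a homomorphism with a chart. -/
theorem map_comp_t {C : Type u} [CommRing C] [Algebra k C] {c : Spec (CommRingCat.of C) ⟶ G.R}
    (hc : c ≫ G.t = Spec.map (CommRingCat.ofHom (algebraMap k C)) ≫ eU.inv)
    {T : Type u} [CommRing T] (φ : C →+* T) (τ : k →+* T) (h : ∀ x, φ (algebraMap k C x) = τ x) :
    (Spec.map (CommRingCat.ofHom φ) ≫ c) ≫ G.t = Spec.map (CommRingCat.ofHom τ) ≫ eU.inv := by
  rw [Category.assoc, hc, ← Category.assoc, ← Spec.map_comp, ← CommRingCat.ofHom_comp,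
    show φ.comp (algebraMap k C) = τ from RingHom.ext h]

theorem of_comp_t {C : Type u} [CommRing C] [Algebra k C] {c : Spec (CommRingCat.of C) ⟶ G.R}
    (hc : c ≫ G.t = Spec.map (CommRingCat.ofHom (algebraMap k C)) ≫ eU.inv)
    {T : Type u} [CommRing T] (φ : C →+* T) (τ : k →+* T)
    (h : (Spec.map (CommRingCat.ofHom φ) ≫ c) ≫ G.t = Spec.map (CommRingCat.ofHom τ) ≫ eU.inv) (x : k) :
    φ (algebraMap k C x) = τ x := by
  rw [Category.assoc, hc, ← Category.assoc, cancel_mono, ← Spec.map_comp] at h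
  exact congrArg (fun r => r.hom x) (Spec.map_injective h)

theorem exists_lift {C : Type u} [CommRing C] (c : Spec (CommRingCat.of C) ⟶ G.R) [IsOpenImmersion c]
    (hπ : Function.Surjective (Spec.map (CommRingCat.ofHom π)))
    (g : Spec (CommRingCat.of T) ⟶ G.R) (g₀ : Spec (CommRingCat.of A) ⟶ Spec (CommRingCat.of C))
    (h : Spec.map (CommRingCat.ofHom π) ≫ g = g₀ ≫ c) :
    ∃ φ : C →+* T, Spec.map (CommRingCat.ofHom φ) ≫ c = g := by
  have hr : Set.range g ⊆ Set.range c := by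
    rintro _ ⟨p, rfl⟩
    obtain ⟨q, rfl⟩ := hπ p
    exact ⟨g₀ q, (congrArg (fun f : Spec (CommRingCat.of A) ⟶ G.R => f q) h).symm⟩
  obtain ⟨φ, hφ⟩ := Spec.map_surjective (IsOpenImmersion.lift c g hr)
  exact ⟨φ.hom, by rw [CommRingCat.ofHom_hom, hφ, IsOpenImmersion.lift_fac]⟩

variable {G eU a j σ ε ι π}

theorem Tr.unique_right {ψ : A →+* T} {φ φ' : B →+* T} (h : Tr G a j ι ψ φ) (h' : Tr G a j ι ψ φ') : φ = φ' := by
  obtain ⟨_, e⟩ := h
  obtain ⟨_, e'⟩ := h'
  exact congrArg CommRingCat.Hom.hom (Spec.map_injective ((cancel_mono j).1 (e.symm.trans e')))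

theorem Tr.unique_left {ψ ψ' : A →+* T} {φ : B →+* T} (h : Tr G a j ι ψ φ) (h' : Tr G a j ι ψ' φ) : ψ = ψ' := by
  obtain ⟨w, e⟩ := h
  obtain ⟨w', e'⟩ := h'
  exact congrArg CommRingCat.Hom.hom (Spec.map_injective ((cancel_mono a).1 (cmp_left_unique G e e')))

theorem Tr.map {T' : Type u} [CommRing T'] {ι' : A →+* T'}
    {ψ : A →+* T} {φ : B →+* T} (h : Tr G a j ι ψ φ) (g : T →+* T') (hg : g.comp ι = ι') :
    Tr G a j ι' (g.comp ψ) (g.comp φ) := by
  obtain ⟨w, e⟩ := h
  subst hg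
  have hψ : Spec.map (CommRingCat.ofHom (g.comp ψ)) ≫ a =
      Spec.map (CommRingCat.ofHom g) ≫ Spec.map (CommRingCat.ofHom ψ) ≫ a := by
    rw [← map_map, Category.assoc]
  have hα : (Spec.map (CommRingCat.ofHom (g.comp ι)) ≫ a) ≫ G.i =
      Spec.map (CommRingCat.ofHom g) ≫ (Spec.map (CommRingCat.ofHom ι) ≫ a) ≫ G.i := by
    rw [← map_map]; simp only [Category.assoc]
  refine ⟨?_, ?_⟩
  · rw [hψ, hα]
    simp only [Category.assoc] at w ⊢
    rw [w]
  · exact cmp_pullback G (Spec.map (CommRingCat.ofHom g)) e hα hψ (by rw [← map_map, Category.assoc])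

theorem exists_right (D : Charts G eU a j σ ε) (hπι : π.comp ι = RingHom.id A)
    (hπ : Function.Surjective (Spec.map (CommRingCat.ofHom π)))
    (ψ : A →+* T) (h1 : π.comp ψ = RingHom.id A) (h2 : ∀ c : k, ψ (algebraMap k A c) = ι (algebraMap k A c)) :
    ∃ φ : B →+* T, Tr G a j ι ψ φ ∧ π.comp φ = σ.comp ε ∧ ∀ c : k, φ (algebraMap k B c) = ι (σ c) := by
  have hb : (Spec.map (CommRingCat.ofHom ψ) ≫ a) ≫ G.t =
      Spec.map (CommRingCat.ofHom (ι.comp (algebraMap k A))) ≫ eU.inv :=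
    map_comp_t G eU D.at' ψ _ h2
  have w : ((Spec.map (CommRingCat.ofHom ι) ≫ a) ≫ G.i) ≫ G.s = (Spec.map (CommRingCat.ofHom ψ) ≫ a) ≫ G.t := by
    rw [hb, Category.assoc, G.i_s]
    exact map_comp_t G eU D.at' ι _ fun _ => rfl
  have e1 : Spec.map (CommRingCat.ofHom π) ≫ Spec.map (CommRingCat.ofHom ι) = 𝟙 _ := by
    rw [map_map, hπι, CommRingCat.ofHom_id, Spec.map_id]
  have e2 : Spec.map (CommRingCat.ofHom π) ≫ Spec.map (CommRingCat.ofHom ψ) = 𝟙 _ := by
    rw [map_map, h1, CommRingCat.ofHom_id, Spec.map_id]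
  have hres : Spec.map (CommRingCat.ofHom π) ≫ cmp G _ _ w = Spec.map (CommRingCat.ofHom (σ.comp ε)) ≫ j := by
    have w0 : (a ≫ G.i) ≫ G.s = a ≫ G.t := by rw [Category.assoc, G.i_s]
    refine (cmp_restrict G _ w w0 ?_ ?_).trans ((cmp_i_self G a w0).trans ?_)
    · rw [← Category.assoc, ← Category.assoc, e1, Category.id_comp]
    · rw [← Category.assoc, e2, Category.id_comp]
    · rw [← Category.assoc, D.as', Category.assoc, ← D.je, ← map_map, Category.assoc]
  obtain ⟨φ, hφ⟩ := exists_lift G π j hπ _ _ hres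
  refine ⟨φ, ⟨w, hφ.symm⟩, ?_, fun c => ?_⟩
  · rw [← hφ, ← Category.assoc, cancel_mono, map_map] at hres
    exact congrArg CommRingCat.Hom.hom (Spec.map_injective hres)
  · refine of_comp_t G eU D.jt φ (ι.comp σ) ?_ c
    rw [hφ, cmp, G.comp_t, Category.assoc, G.i_t, Category.assoc, D.as', ← Category.assoc, map_map]

theorem exists_left (D : Charts G eU a j σ ε) (hπι : π.comp ι = RingHom.id A)
    (hπ : Function.Surjective (Spec.map (CommRingCat.ofHom π)))
    (φ : B →+* T) (h1 : π.comp φ = σ.comp ε) (h2 : ∀ c : k, φ (algebraMap k B c) = ι (σ c)) :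
    ∃ ψ : A →+* T, Tr G a j ι ψ φ ∧ π.comp ψ = RingHom.id A ∧
      ∀ c : k, ψ (algebraMap k A c) = ι (algebraMap k A c) := by
  have w : (Spec.map (CommRingCat.ofHom ι) ≫ a) ≫ G.s = (Spec.map (CommRingCat.ofHom φ) ≫ j) ≫ G.t := by
    rw [map_comp_t G eU D.jt φ (ι.comp σ) h2, Category.assoc, D.as', ← Category.assoc, map_map]
  have e1 : Spec.map (CommRingCat.ofHom π) ≫ Spec.map (CommRingCat.ofHom ι) = 𝟙 _ := by
    rw [map_map, hπι, CommRingCat.ofHom_id, Spec.map_id]
  have hres : Spec.map (CommRingCat.ofHom π) ≫ cmp G _ _ w = 𝟙 _ ≫ a := by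
    have w0 : a ≫ G.s = (a ≫ G.s ≫ G.e) ≫ G.t := by simp [G.e_t]
    rw [Category.id_comp]
    refine (cmp_restrict G _ w w0 ?_ ?_).trans (cmp_self_e G a w0)
    · rw [← Category.assoc, e1, Category.id_comp]
    · rw [← Category.assoc, map_map, h1, ← map_map, Category.assoc, D.je, ← Category.assoc, ← D.as',
        Category.assoc]
  obtain ⟨ψ, hψ⟩ := exists_lift G π a hπ _ _ hres
  refine ⟨ψ, ⟨?_, ?_⟩, ?_, fun c => ?_⟩
  · rw [hψ, cmp, G.comp_t, Category.assoc, G.i_s]
  · exact cmp_switch G w hψ _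
  · rw [← hψ, ← Category.assoc, cancel_mono, map_map, ← Spec.map_id, ← CommRingCat.ofHom_id] at hres
    exact congrArg CommRingCat.Hom.hom (Spec.map_injective hres)
  · refine of_comp_t G eU D.at' ψ (ι.comp (algebraMap k A)) ?_ c
    rw [hψ, cmp, G.comp_t, Category.assoc, D.at', ← Category.assoc, map_map]

end

section Free

variable {k A B : Type u} [Field k] [CommRing A] [CommRing B] [Algebra k A] [Algebra k B]
  {eU : G.U ≅ Spec (CommRingCat.of k)}
  {a : Spec (CommRingCat.of A) ⟶ G.R} [IsOpenImmersion a]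
  {j : Spec (CommRingCat.of B) ⟶ G.R} [IsOpenImmersion j]
  {σ : k →+* A} {ε : B →+* k}

/-- The corresponding derivations. -/
def Rel {M : Type u} [AddCommGroup M] [Module A M] [Module Aᵐᵒᵖ M] [IsCentralScalar A M]
    (a : Spec (CommRingCat.of A) ⟶ G.R) (j : Spec (CommRingCat.of B) ⟶ G.R)
    (D : A → M) (δ : B → M) : Prop :=
  ∃ ψ φ, Tr G a j (TrivSqZeroExt.inlHom A M) ψ φ ∧ (∀ x, (ψ x).fst = x) ∧ (∀ x, (ψ x).snd = D x) ∧
    (∀ x, (φ x).fst = σ (ε x)) ∧ ∀ x, (φ x).snd = δ x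

theorem free_kaehler (D : Charts G eU a j σ ε) : Module.Free A (Ω[A⁄k]) := by
  let χ : B →+* A := σ.comp ε
  let εA : B →ₐ[k] k := { ε with commutes' := fun c => D.εk c }
  let m : Ideal B := RingHom.ker εA
  let p : B →ₗ[k] m :=
    { toFun := fun y => ⟨y - algebraMap k B (ε y), by
        show εA _ = 0
        rw [map_sub, εA.commutes]; exact sub_self (ε y)⟩
      map_add' := fun y z => Subtype.ext <| by simp [map_add]; abel
      map_smul' := fun c y => Subtype.ext <| by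
        simp [Algebra.smul_def, D.εk, map_mul]; ring }
  let π : B →ₗ[k] m.Cotangent := m.toCotangent.restrictScalars k ∘ₗ p
  let bs := Module.Free.chooseBasis k m.Cotangent
  choose y hy using fun i => m.toCotangent_surjective (bs i)
  let ι := Module.Free.ChooseBasisIndex k m.Cotangent
  letI hop : ∀ (M : Type u) [AddCommGroup M] [Module A M], Module Aᵐᵒᵖ M := fun M _ _ =>
    Module.compHom M ((RingHom.id A).fromOpposite mul_comm)
  haveI : ∀ (M : Type u) [AddCommGroup M] [Module A M], IsCentralScalar A M := fun M _ _ => ⟨fun _ _ => rfl⟩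
  have hsurj : ∀ (M : Type u) [AddCommGroup M] [Module A M],
      Function.Surjective (Spec.map (CommRingCat.ofHom (TrivSqZeroExt.fstHom A A M).toRingHom)) :=
    fun M _ _ => incl_surjective (A := A) (M := M)
  let δu : B → (ι →₀ A) := fun x => (bs.repr (π x)).mapRange σ (map_zero σ)
  have hπmul : ∀ u v, π (u * v) = ε u • π v + ε v • π u := by
    intro u v
    show m.toCotangent (p (u * v)) = ε u • m.toCotangent (p v) + ε v • m.toCotangent (p u)
    rw [← LinearMap.map_smul_of_tower m.toCotangent (ε u) (p v), ← LinearMap.map_smul_of_tower m.toCotangent (ε v) (p u),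
      ← map_add]
    refine (Ideal.toCotangent_eq m).2 ?_
    have : ((p (u * v) : B) - (ε u • p v + ε v • p u : m)) = (p u : B) * p v := by
      simp [p, Algebra.smul_def, map_mul]; ring
    rw [this, sq]
    exact Ideal.mul_mem_mul (p u).2 (p v).2
  have hδu : IsDer χ δu := by
    refine ⟨fun u v => ?_, fun u v => ?_⟩
    · ext i; simp [δu]
    · ext i; simp [δu, hπmul, χ]
  have hδuk : ∀ c, δu (algebraMap k B c) = 0 := by
    intro c
    have : p (algebraMap k B c) = 0 := Subtype.ext (by simp [p, D.εk])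
    simp [δu, π, this]
  -- existence of translates
  have hright : ∀ (M : Type u) [AddCommGroup M] [Module A M] [Module k M] [IsScalarTower k A M]
      (d : Derivation k A M), ∃ δ : B → M, IsDer χ δ ∧ (∀ c, δ (algebraMap k B c) = 0) ∧
        Rel G (σ := σ) (ε := ε) a j d δ := by
    intro M _ _ _ _ d
    have hd : IsDer (RingHom.id A) (d : A → M) := ⟨map_add d, d.leibniz⟩
    obtain ⟨φ, hφ, h1', h2⟩ := exists_right D (ι := TrivSqZeroExt.inlHom A M)
      (π := (TrivSqZeroExt.fstHom A A M).toRingHom) (RingHom.ext fun _ => rfl) (hsurj M) hd.hom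
      (RingHom.ext fun _ => rfl) (fun c => TrivSqZeroExt.ext rfl (d.map_algebraMap c))
    have h1 : ∀ x, (φ x).fst = χ x := fun x => RingHom.congr_fun h1' x
    refine ⟨fun x => (φ x).snd, isDer_snd φ h1, fun c => by simp [h2], hd.hom, φ, hφ, fun _ => rfl,
      fun _ => rfl, h1, fun _ => rfl⟩
  have hunl : ∀ (M : Type u) [AddCommGroup M] [Module A M] (d d' : A → M) (δ : B → M),
      Rel G (σ := σ) (ε := ε) a j d δ → Rel G (σ := σ) (ε := ε) a j d' δ → ∀ x, d x = d' x := by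
    rintro M _ _ d d' δ ⟨ψ, φ, h, p1, p2, p3, p4⟩ ⟨ψ', φ', h', q1, q2, q3, q4⟩ x
    obtain rfl : φ = φ' := RingHom.ext fun y =>
      TrivSqZeroExt.ext ((p3 y).trans (q3 y).symm) ((p4 y).trans (q4 y).symm)
    rw [← p2, ← q2, h.unique_left h']
  have hunr : ∀ (M : Type u) [AddCommGroup M] [Module A M] (d : A → M) (δ δ' : B → M),
      Rel G (σ := σ) (ε := ε) a j d δ → Rel G (σ := σ) (ε := ε) a j d δ' → ∀ x, δ x = δ' x := by
    rintro M _ _ d δ δ' ⟨ψ, φ, h, p1, p2, p3, p4⟩ ⟨ψ', φ', h', q1, q2, q3, q4⟩ x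
    obtain rfl : ψ = ψ' := RingHom.ext fun y =>
      TrivSqZeroExt.ext ((p1 y).trans (q1 y).symm) ((p2 y).trans (q2 y).symm)
    rw [← p4, ← q4, h.unique_right h']
  have hmap : ∀ (M M' : Type u) [AddCommGroup M] [Module A M] [AddCommGroup M'] [Module A M']
      (f : M →ₗ[A] M') (d : A → M) (δ : B → M), Rel G (σ := σ) (ε := ε) a j d δ →
      Rel G (σ := σ) (ε := ε) a j (fun x => f (d x)) (fun x => f (δ x)) := by
    rintro M M' _ _ _ _ f d δ ⟨ψ, φ, h, p1, p2, p3, p4⟩
    refine ⟨_, _, h.map (TrivSqZeroExt.map f).toRingHom (RingHom.ext fun x => TrivSqZeroExt.map_inl f x), fun x => ?_, fun x => ?_, fun x => ?_, fun x => ?_⟩ <;> simp [p1, p2, p3, p4]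
  -- the translate of the universal cotangent derivation
  obtain ⟨d', hd'⟩ : ∃ d' : Derivation k A (ι →₀ A), Rel G (σ := σ) (ε := ε) a j d' δu := by
    obtain ⟨ψ, hψ, h1', h2⟩ := exists_left D (ι := TrivSqZeroExt.inlHom A (ι →₀ A))
      (π := (TrivSqZeroExt.fstHom A A (ι →₀ A)).toRingHom) (RingHom.ext fun _ => rfl) (hsurj _) hδu.hom
      (RingHom.ext fun _ => rfl) (fun c => TrivSqZeroExt.ext (show σ (ε _) = σ c by rw [D.εk]) (hδuk c))
    have h1 : ∀ x, (ψ x).fst = x := fun x => RingHom.congr_fun h1' x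
    have hd := isDer_snd (ρ := RingHom.id A) ψ h1
    have hk : ∀ c, (ψ (algebraMap k A c)).snd = 0 := fun c => by simp [h2]
    refine ⟨Derivation.mk'
      { toFun := fun x => (ψ x).snd
        map_add' := hd.add
        map_smul' := fun c x => by
          simp [Algebra.smul_def, h2, h1, TrivSqZeroExt.snd_mul] } fun x y => ?_, ?_⟩
    · simpa using hd.mul x y
    · exact ⟨ψ, hδu.hom, hψ, h1, fun _ => rfl, fun _ => rfl, fun _ => rfl⟩
  obtain ⟨δΩ, hδΩ, hδΩk, hΩ⟩ := hright _ (KaehlerDifferential.D k A)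
  let F := d'.liftKaehlerDifferential
  let L : (ι →₀ A) →ₗ[A] Ω[A⁄k] := Finsupp.linearCombination A fun i => δΩ (y i : B)
  -- `δΩ` kills the square of the maximal ideal
  let δh : B →+ Ω[A⁄k] := AddMonoidHom.mk' δΩ hδΩ.add
  have hkill : ∀ z ∈ m ^ 2, δΩ z = 0 := by
    intro z hz
    rw [sq] at hz
    induction hz using Submodule.mul_induction_on' with
    | mem_mul_mem u hu v hv =>
      rw [hδΩ.mul, show χ u = 0 by simp [χ, show ε u = 0 from hu], show χ v = 0 by simp [χ, show ε v = 0 from hv]]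
      simp
    | add u _ v _ hu hv => rw [hδΩ.add, hu, hv, add_zero]
  have hL : ∀ x, L (δu x) = δΩ x := by
    intro x
    let c := bs.repr (π x)
    let w : m := c.sum fun i r => r • y i
    have hw : m.toCotangent (p x) = m.toCotangent w := by
      show π x = (m.toCotangent.restrictScalars k) w
      conv_lhs => rw [← bs.linearCombination_repr (π x)]
      simp only [w, map_finsuppSum, LinearMap.map_smul, LinearMap.restrictScalars_apply, hy,
        Finsupp.linearCombination_apply, c]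
    have h0 : δh ((p x : B) - w) = 0 := hkill _ ((Ideal.toCotangent_eq m).1 hw)
    rw [map_sub, sub_eq_zero] at h0
    have hx : δh (p x : B) = δΩ x := by
      show δh (x - algebraMap k B (ε x)) = _
      rw [map_sub]; show δΩ x - δΩ _ = _
      rw [hδΩk, sub_zero]
    rw [← hx, h0]
    show Finsupp.linearCombination A _ ((bs.repr (π x)).mapRange σ _) = δh _
    rw [Finsupp.linearCombination_apply, Finsupp.sum_mapRange_index (by simp)]
    simp only [w, Finsupp.sum, AddSubmonoidClass.coe_finsetSum, map_sum]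
    refine Finset.sum_congr rfl fun i _ => ?_
    show _ = δΩ (c i • (y i : B))
    rw [Algebra.smul_def, hδΩ.mul, hδΩk, smul_zero, add_zero]
    simp [χ, D.εk, c]
  have hLF : ∀ x, L (d' x) = KaehlerDifferential.D k A x := by
    refine hunl _ _ _ δΩ ?_ hΩ
    have := hmap _ _ L _ _ hd'
    simpa only [hL] using this
  have hFd : ∀ x, F (δΩ x) = δu x := by
    refine hunr _ d' _ _ ?_ hd'
    have := hmap _ _ F _ _ hΩ
    simpa only [Derivation.liftKaehlerDifferential_comp_D, F] using this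
  have e1 : L ∘ₗ F = LinearMap.id := by
    apply Derivation.liftKaehlerDifferential_unique
    ext x
    show L (F (KaehlerDifferential.D k A x)) = KaehlerDifferential.D k A x
    rw [Derivation.liftKaehlerDifferential_comp_D, hLF]
  have e2 : F ∘ₗ L = LinearMap.id := by
    refine Finsupp.lhom_ext' fun i => LinearMap.ext_ring ?_
    show F (L (Finsupp.single i 1)) = Finsupp.single i 1
    rw [Finsupp.linearCombination_single, one_smul, hFd]
    have : π (y i : B) = bs i := by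
      rw [← hy i]
      show m.toCotangent (p (y i : B)) = _
      congr 1
      exact Subtype.ext (by simp [p, show ε (y i : B) = 0 from (y i).2])
    simp [δu, this]
  exact Module.Free.of_equiv (LinearEquiv.ofLinearMap L F e1 e2)

end Free

end Groth.Agent.GrpdDiff
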